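import Groth.Agent.Lib.FMK22.SerreDual
import Groth.Agent.Lib.SkyDual15.Tri
import Groth.Agent.Lib.RHomO20.Compare
import Groth.Agent.Lib.ShriekBridge22.ClosedRHom
import Groth.Agent.Lib.ClosedHom20.Basic
import Groth.Agent.Lib.ClosedFlatBC29.Basic
import Groth.Agent.Lib.CartierDescent.Conditions
import Groth.Agent.Lib.ArSurf29.Horizontal
import Groth.Agent.Lib.IdealModSec.Basic
import Groth.Agent.Lib.ArtCrit20.Geo
import Groth.Agent.Lib.ZClos.Basic
import Groth.Agent.Lib.ConnH0.Basic
import Groth.Agent.Lib.RightAdj20.ClosedPseudo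

/-!
# `R Hom(O_D, O)` of an effective Cartier divisor
-/

set_option autoImplicit false
set_option maxHeartbeats 1600000
set_option linter.style.haveILetI false
set_option backward.isDefEq.respectTransparency false
universe u

open CategoryTheory CategoryTheory.Limits CategoryTheory.Pretriangulated AlgebraicGeometry HomologicalComplex
open DerivedCategory (Q)
attribute [local instance] HasDerivedCategory.standard

noncomputable section

namespace GrothLib.CartierDual22

open GrothLib.OX
open GrothLib.QCoh (stalkLin)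

variable {X : Scheme.{u}} {I : X.IdealSheafData}

/-- Nothing supported on an effective Cartier divisor maps nontrivially to an invertible module. -/
theorem hom_push_invertible_eq_zero (hI : _root_.BlowUp.IsEffCartierIdeal I) {N : X.Modules}
    (hN : PicF.IsInvertible N) (F : I.subscheme.Modules)
    (h : (Scheme.Modules.pushforward I.subschemeι).obj F ⟶ N) : h = 0 := by
  let i := I.subschemeι
  have hst : ∀ (x : X) (e : ((Scheme.Modules.pushforward i).obj F).presheaf.stalk x), stalkLin h x e = 0 := by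
    intro x e
    by_cases hx : x ∈ Set.range i
    · obtain ⟨z, rfl⟩ := hx
      obtain ⟨γ, hγ, hγI⟩ := CartierDescent.exists_stalk_generator hI (i z)
      have hk : (i.stalkMap z).hom γ = 0 := by
        show γ ∈ RingHom.ker (i.stalkMap z).hom
        rw [ArSurf29.ker_stalkMap_eq_stalkIdeal i z, Scheme.IdealSheafData.ker_subschemeι, hγI]
        exact Ideal.mem_span_singleton_self _
      have he : γ • e = 0 := ClosedFlatBC29.smul_push_eq_zero i F (i z) z rfl γ
        (by rw [show (X.presheaf.stalkCongr (Inseparable.of_eq (rfl : i z = i z))).hom = 𝟙 _ from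
          TopCat.Presheaf.stalkSpecializes_refl _ _]; exact hk) e
      obtain ⟨u⟩ := ArtCrit20.nonempty_stalk_equiv_of_invertibleAt (hN (i z))
      apply u.symm.injective
      rw [map_zero]
      have h1 : γ * u.symm (stalkLin h (i z) e) = 0 := by
        rw [← smul_eq_mul, ← map_smul, ← map_smul, he, map_zero, map_zero]
      exact (mul_left_mem_nonZeroDivisors_eq_zero_iff hγ).1 h1
    · haveI : Subsingleton (((Scheme.Modules.pushforward i).obj F).presheaf.stalk x) :=
        ModuleCat.subsingleton_of_isZero (OX.isZero_stalk_push i F x hx)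
      rw [Subsingleton.elim (α := ((Scheme.Modules.pushforward i).obj F).presheaf.stalk x) e 0, map_zero]
  refine (OX.eq_zero_iff h).2 fun x => ?_
  exact ModuleCat.hom_ext (LinearMap.ext (hst x))

/-- An inverse of the ideal is invertible. -/
theorem isInvertible_inverse (hI : _root_.BlowUp.IsEffCartierIdeal I) (L : X.Modules)
    (hL : ClSub.IsInverseOf L (ClSub.idealMod I)) : PicF.IsInvertible L := by
  obtain ⟨eLI⟩ := hL
  exact KL.isInvertible_of_tensor_iso
    ((((OX.tensorBraiding (X := X)).app (ClSub.idealMod I)).app L).symm ≪≫ eLI)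
    (IdealModSec.isInvertible_of_isEffCartier hI) Euler.isInvertible_structure

/-- An epimorphism and a monomorphism from a line bundle to one module: the first is an isomorphism. -/
theorem isIso_of_epi_mono {Z : Scheme.{u}} {N M : Z.Modules} (hN : PicF.IsInvertible N) (u v : N ⟶ M)
    [Epi u] [Mono v] : IsIso u :=
  ZClosure.isIso_of_stalk u fun z => by
    have hsurj : Function.Surjective (stalkLin u z) := (ModuleCat.epi_iff_surjective _).1 ((OX.epi_iff u).1 inferInstance z)
    refine (show Function.Bijective (stalkLin u z) from ⟨?_, hsurj⟩)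
    obtain ⟨e⟩ := ArtCrit20.nonempty_stalk_equiv_of_invertibleAt (hN z)
    obtain ⟨y, hy⟩ := hsurj (stalkLin v z (e 1))
    have hy' : y = e.symm y • e 1 := by rw [← map_smul, smul_eq_mul, mul_one, e.apply_symm_apply]
    refine (injective_iff_map_eq_zero _).2 fun m hm => ?_
    have hm' : m = e.symm m • e 1 := by rw [← map_smul, smul_eq_mul, mul_one, e.apply_symm_apply]
    apply QCoh.stalkLin_injective v z
    rw [map_zero, hm', map_smul, ← hy, hy', map_smul, smul_comm, ← map_smul (stalkLin u z) (e.symm m), ← hm', hm,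
      smul_zero]

variable [Dual3.HasHomO I.subschemeι] [EnoughInjectives X.Modules]

/-- The long exact sequence: vanishing outside degree one and the quotient of `L`. -/
theorem vanish_and_quotient (hI : _root_.BlowUp.IsEffCartierIdeal I)
    (L : X.Modules) (hL : ClSub.IsInverseOf L (ClSub.idealMod I))
    (O : DerivedCategory.Plus X.Modules) (hO : Nonempty (O.obj ≅ DCoh.inD X (Coh.structureModule X))) :
    (∀ j : ℤ, j ≠ 1 → IsZero (DCoh.HD ((Dual3.RHomOPlus I.subschemeι).obj O).obj j)) ∧
      ∃ π : L ⟶ (Scheme.Modules.pushforward I.subschemeι).obj (DCoh.HD ((Dual3.RHomOPlus I.subschemeι).obj O).obj 1),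
        Epi π := by
  have hLi := isInvertible_inverse hI L hL
  obtain ⟨eO⟩ := hO
  let i := I.subschemeι
  let P := Scheme.Modules.pushforward i
  haveI := preservesHomology_pushforward i
  haveI : PreservesFiniteLimits P := inferInstance
  haveI : PreservesFiniteColimits P := inferInstance
  obtain ⟨hfull, hfaith⟩ := ClosedHom20.full_faithful_pushforward i
  haveI := hfull
  haveI := hfaith
  have hIi : PicF.IsInvertible (ClSub.idealMod I) := IdealModSec.isInvertible_of_isEffCartier hI
  obtain ⟨eLI⟩ := hL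
  -- the three vertices
  let S : ShortComplex X.Modules := ShortComplex.mk (ClSub.idealModι I) (ClSub.toSubscheme I) (kernel.condition _)
  have hS : S.ShortExact := ConnH0.shortExact_ideal I
  let sX := single X.Modules (ComplexShape.up ℤ) 0
  haveI := hasLTensorCx (sX.obj S.X₁)
  haveI := hasLTensorCx (sX.obj S.X₂)
  haveI := hasLTensorCx (sX.obj S.X₃)
  haveI := hasRSheafHom (sX.obj S.X₁)
  haveI := hasRSheafHom (sX.obj S.X₂)
  haveI := hasRSheafHom (sX.obj S.X₃)
  obtain ⟨T, hT, ⟨t₁⟩, ⟨t₂⟩, ⟨t₃⟩⟩ := SkyDual15.exists_rhom_triangle hS (flat_structureModule X)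
    (DCoh.inD X (Coh.structureModule X))
  haveI : DCoh.HasLTensorCx (unitCx X) := ‹DCoh.HasLTensorCx (sX.obj S.X₂)›
  haveI : DCoh.HasRSheafHom (unitCx X) := ‹DCoh.HasRSheafHom (sX.obj S.X₂)›
  obtain ⟨ub⟩ := RightAdj22.nonempty_RSheafHom_unit (DCoh.inD X (Coh.structureModule X))
  obtain ⟨du⟩ := FMK22.nonempty_dual_invertible hLi hIi eLI (sX.obj S.X₁)
    (isKFlat_single _ (flat_of_isFinLocFree (Euler.isFinLocFree_of_isInvertible hIi)) 0)
    ((DerivedCategory.singleFunctorIsoCompQ X.Modules 0).app _).symm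
  obtain ⟨s⟩ := ShriekBridge22.nonempty_pushD_RHomOPlus i (sX.obj S.X₃)
    ⟨((DerivedCategory.singleFunctorIsoCompQ X.Modules 0).app _).symm⟩
  let R := ((Dual3.RHomOPlus i).obj O).obj
  let f₁ : T.obj₁ ≅ (Dual3.pushD i).obj R :=
    t₁ ≪≫ (DCoh.RSheafHom (sX.obj S.X₃)).mapIso eO.symm ≪≫ (s.app O).symm
  let f₂ : T.obj₂ ≅ DCoh.inD X (Coh.structureModule X) := t₂ ≪≫ ub
  let f₃ : T.obj₃ ≅ DCoh.inD X L := t₃ ≪≫ du
  let H := fun n : ℤ => DerivedCategory.homologyFunctor X.Modules n
  let g₁ : ∀ n : ℤ, (H n).obj T.obj₁ ≅ P.obj (DCoh.HD R n) := fun n =>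
    (H n).mapIso f₁ ≪≫ (DerTrunc.homologyMapIso P n).app R
  let gO : (H 0).obj T.obj₂ ≅ Coh.structureModule X :=
    (H 0).mapIso f₂ ≪≫ (DerivedCategory.singleFunctorCompHomologyFunctorIso X.Modules 0).app _
  let gL : (H 0).obj T.obj₃ ≅ L :=
    (H 0).mapIso f₃ ≪≫ (DerivedCategory.singleFunctorCompHomologyFunctorIso X.Modules 0).app _
  have hz : ∀ (M : X.Modules) (n : ℤ), n ≠ 0 → IsZero ((H n).obj (DCoh.inD X M)) := fun M n hn => by
    rcases lt_or_gt_of_ne hn with h | h
    · exact DerivedCategory.isZero_of_isGE ((DerivedCategory.singleFunctor X.Modules 0).obj M) 0 n h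
    · exact DerivedCategory.isZero_of_isLE ((DerivedCategory.singleFunctor X.Modules 0).obj M) 0 n h
  have hz₂ : ∀ n : ℤ, n ≠ 0 → IsZero ((H n).obj T.obj₂) := fun n hn => (hz _ n hn).of_iso ((H n).mapIso f₂)
  have hz₃ : ∀ n : ℤ, n ≠ 0 → IsZero ((H n).obj T.obj₃) := fun n hn => (hz _ n hn).of_iso ((H n).mapIso f₃)
  have hP : ∀ F : I.subscheme.Modules, IsZero (P.obj F) → IsZero F := fun F hF => by
    rw [IsZero.iff_id_eq_zero]
    exact P.map_injective (by rw [Functor.map_zero]; exact hF.eq_of_src _ _)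
  have hvan : ∀ j : ℤ, j ≠ 1 → IsZero (DCoh.HD R j) := by
    intro j hj
    refine hP _ (IsZero.of_iso ?_ (g₁ j).symm)
    by_cases h0 : j = 0
    · subst h0
      have hex := DerivedCategory.HomologySequence.exact₁ T hT (-1) 0 (by omega)
      haveI : Mono ((H 0).map T.mor₁) := hex.mono_g ((hz₃ (-1) (by omega)).eq_of_src _ _)
      have hzero : (g₁ 0).inv ≫ (H 0).map T.mor₁ ≫ gO.hom = 0 :=
        hom_push_invertible_eq_zero hI Euler.isInvertible_structure _ _
      rw [IsZero.iff_id_eq_zero]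
      rw [← cancel_mono ((H 0).map T.mor₁), ← cancel_mono gO.hom, ← cancel_epi (g₁ 0).inv]
      simpa using hzero
    · refine (DerivedCategory.HomologySequence.exact₁ T hT (j - 1) j (by omega)).isZero_of_both_zeros ?_ ?_
      · exact (hz₃ (j - 1) (by omega)).eq_of_src _ _
      · exact (hz₂ j h0).eq_of_tgt _ _
  refine ⟨hvan, gL.inv ≫ DerivedCategory.HomologySequence.δ T 0 1 (by omega) ≫ (g₁ 1).hom, ?_⟩
  haveI : Epi (DerivedCategory.HomologySequence.δ T 0 1 (by omega)) :=
    (DerivedCategory.HomologySequence.exact₁ T hT 0 1 (by omega)).epi_f ((hz₂ 1 (by omega)).eq_of_tgt _ _)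
  exact epi_comp _ _

/-- Maps into `H^1` are extensions by `O`. -/
theorem exists_extEquiv (O : DerivedCategory.Plus X.Modules) (hO : Nonempty (O.obj ≅ DCoh.inD X (Coh.structureModule X)))
    (hvan : ∀ j : ℤ, j ≠ 1 → IsZero (DCoh.HD ((Dual3.RHomOPlus I.subschemeι).obj O).obj j)) :
    ∃ Ψ : ∀ F : I.subscheme.Modules, (F ⟶ DCoh.HD ((Dual3.RHomOPlus I.subschemeι).obj O).obj 1) →
        ((DerivedCategory.singleFunctor X.Modules 1).obj ((Scheme.Modules.pushforward I.subschemeι).obj F) ⟶
          (DerivedCategory.singleFunctor X.Modules 0).obj (Coh.structureModule X)),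
      (∀ F, Function.Bijective (Ψ F)) ∧ ∀ (F G : I.subscheme.Modules) (w : F ⟶ G)
        (v : G ⟶ DCoh.HD ((Dual3.RHomOPlus I.subschemeι).obj O).obj 1),
          Ψ F (w ≫ v) = (DerivedCategory.singleFunctor X.Modules 1).map
            ((Scheme.Modules.pushforward I.subschemeι).map w) ≫ Ψ G v := by
  obtain ⟨eO⟩ := hO
  let i := I.subschemeι
  let P := Scheme.Modules.pushforward i
  haveI := preservesHomology_pushforward i
  haveI : PreservesFiniteLimits P := inferInstance
  haveI : PreservesFiniteColimits P := inferInstance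
  let R := ((Dual3.RHomOPlus i).obj O).obj
  let M := DCoh.HD R 1
  -- maps into `M` are extensions
  haveI : R.IsGE 1 := (DerivedCategory.isGE_iff _ _).2 fun j hj => hvan j (by omega)
  haveI : R.IsLE 1 := (DerivedCategory.isLE_iff _ _).2 fun j hj => hvan j (by omega)
  obtain ⟨M', ⟨eR⟩⟩ := DerivedCategory.exists_iso_singleFunctor_obj_of_isGE_of_isLE R 1
  let eM : M' ≅ M := ((DerivedCategory.singleFunctorCompHomologyFunctorIso _ 1).app M').symm ≪≫
    (DerivedCategory.homologyFunctor _ 1).mapIso eR.symm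
  obtain ⟨adjD⟩ := CohDer19.DerAdj.nonempty_adj_res (Dual3.homOAdj i)
  obtain ⟨p⟩ := RHomO20.nonempty_plus_iso (Dual3.homOAdj i)
  let S0 := DerivedCategory.singleFunctor X.Modules 0
  let S1 := DerivedCategory.singleFunctor X.Modules 1
  let Z1 := DerivedCategory.singleFunctor I.subscheme.Modules 1
  let κ : P ⋙ S1 ≅ Z1 ⋙ P.mapDerivedCategory := (P.mapDerivedCategorySingleFunctor 1).symm
  let r : (RHomO20.Φ (Dual3.homO i)).obj O.obj ≅ Z1.obj M :=
    (p.app O).symm ≪≫ eR ≪≫ Z1.mapIso eM
  let Ψ : ∀ F : I.subscheme.Modules, (F ⟶ M) → (S1.obj (P.obj F) ⟶ S0.obj (Coh.structureModule X)) := fun F v =>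
    κ.hom.app F ≫ (adjD.homEquiv (Z1.obj F) O.obj).symm (Z1.map v ≫ r.inv) ≫ eO.hom
  have hΨ : ∀ F, Function.Bijective (Ψ F) := fun F => by
    refine ⟨fun v v' h => ?_, fun t => ?_⟩
    · have h1 := (adjD.homEquiv _ _).symm.injective ((cancel_mono eO.hom).1 ((cancel_epi (κ.hom.app F)).1 h))
      exact Z1.map_injective ((cancel_mono r.inv).1 h1)
    · obtain ⟨v, hv⟩ := Z1.map_surjective (adjD.homEquiv (Z1.obj F) O.obj (κ.inv.app F ≫ t ≫ eO.inv) ≫ r.hom)
      refine ⟨v, ?_⟩
      show κ.hom.app F ≫ (adjD.homEquiv _ _).symm (Z1.map v ≫ r.inv) ≫ eO.hom = t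
      rw [hv, Category.assoc, r.hom_inv_id, Category.comp_id, Equiv.symm_apply_apply]
      simp
  have hnat : ∀ {F G : I.subscheme.Modules} (w : F ⟶ G) (v : G ⟶ M), Ψ F (w ≫ v) = S1.map (P.map w) ≫ Ψ G v := by
    intro F G w v
    show κ.hom.app F ≫ _ ≫ eO.hom = S1.map (P.map w) ≫ κ.hom.app G ≫ _ ≫ eO.hom
    rw [Functor.map_comp, Category.assoc, Adjunction.homEquiv_naturality_left_symm,
      show S1.map (P.map w) ≫ κ.hom.app G ≫ _ = _ from κ.hom.naturality_assoc w _, Category.assoc]
    rfl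
  exact ⟨Ψ, hΨ, fun F G w v => hnat w v⟩

section
variable {C : Type*} [Category C] [Abelian C] [HasDerivedCategory C]

/-- The class of an extension, as a map out of the first shift. -/
def extHom (S' : ShortComplex C) (hS' : S'.ShortExact) {N' O' : C} (μ : S'.X₃ ≅ N') (ν : S'.X₁ ≅ O') :
    (DerivedCategory.singleFunctor C 1).obj N' ⟶ (DerivedCategory.singleFunctor C 0).obj O' :=
  (shiftFunctor (DerivedCategory C) (1 : ℤ)).preimage
    (((DerivedCategory.singleFunctors C).shiftIso (1 : ℤ) 0 1 (by omega)).hom.app N' ≫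
      (DerivedCategory.singleFunctor C 0).map μ.inv ≫ hS'.singleδ ≫
        ((DerivedCategory.singleFunctor C 0).map ν.hom)⟦(1 : ℤ)⟧')

/-- A map killed by the extension class lifts to the middle term. -/
theorem eq_zero_of_extHom (S' : ShortComplex C) (hS' : S'.ShortExact) {N' O' F' : C} (μ : S'.X₃ ≅ N')
    (ν : S'.X₁ ≅ O') (g : F' ⟶ N') (h1 : (DerivedCategory.singleFunctor C 1).map g ≫ extHom S' hS' μ ν = 0)
    (h0 : ∀ h : F' ⟶ S'.X₂, h = 0) : g = 0 := by
  let S0 := DerivedCategory.singleFunctor C 0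
  let sh := (DerivedCategory.singleFunctors C).shiftIso (1 : ℤ) 0 1 (by omega)
  have h3 := congrArg (fun t => t⟦(1 : ℤ)⟧') h1
  simp only [Functor.map_comp, Functor.map_zero, Functor.map_preimage, extHom] at h3
  have h4 := sh.hom.naturality g
  have h2 : S0.map (g ≫ μ.inv) ≫ hS'.singleδ = 0 := by
    rw [← cancel_mono ((S0.map ν.hom)⟦(1 : ℤ)⟧'), zero_comp, ← cancel_epi (sh.hom.app F'), comp_zero,
      Functor.map_comp]
    simp only [Category.assoc]
    exact ((reassoc_of% h4) _).symm.trans h3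
  obtain ⟨h, hh⟩ := Triangle.coyoneda_exact₃ _ hS'.singleTriangle_distinguished (S0.map (g ≫ μ.inv)) h2
  obtain ⟨h₀, rfl⟩ := S0.map_surjective h
  rw [h0 h₀, Functor.map_zero] at hh
  have h6 : g ≫ μ.inv = 0 := S0.map_injective (hh.trans (zero_comp.trans (Functor.map_zero _ _ _).symm))
  exact (cancel_mono μ.inv).1 (h6.trans zero_comp.symm)

end

/-- The twisted ideal sequence gives a monomorphism from `i^* L` into a module representing extensions by `O`. -/
theorem exists_mono (hI : _root_.BlowUp.IsEffCartierIdeal I)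
    (L : X.Modules) (hL : ClSub.IsInverseOf L (ClSub.idealMod I)) (M : I.subscheme.Modules)
    (Ψ : ∀ F : I.subscheme.Modules, (F ⟶ M) →
        ((DerivedCategory.singleFunctor X.Modules 1).obj ((Scheme.Modules.pushforward I.subschemeι).obj F) ⟶
          (DerivedCategory.singleFunctor X.Modules 0).obj (Coh.structureModule X)))
    (hΨ : ∀ F, Function.Bijective (Ψ F))
    (hnat : ∀ (F G : I.subscheme.Modules) (w : F ⟶ G) (v : G ⟶ M),
      Ψ F (w ≫ v) = (DerivedCategory.singleFunctor X.Modules 1).map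
        ((Scheme.Modules.pushforward I.subschemeι).map w) ≫ Ψ G v) :
    ∃ v : (Scheme.Modules.pullback I.subschemeι).obj L ⟶ M, Mono v := by
  have hLi := isInvertible_inverse hI L hL
  let i := I.subschemeι
  let P := Scheme.Modules.pushforward i
  obtain ⟨hfull, hfaith⟩ := ClosedHom20.full_faithful_pushforward i
  haveI := hfull
  haveI := hfaith
  obtain ⟨eLI⟩ := hL
  let S : ShortComplex X.Modules := ShortComplex.mk (ClSub.idealModι I) (ClSub.toSubscheme I) (kernel.condition _)
  have hS : S.ShortExact := ConnH0.shortExact_ideal I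
  let N := (Scheme.Modules.pullback i).obj L
  let S0 := DerivedCategory.singleFunctor X.Modules 0
  let S1 := DerivedCategory.singleFunctor X.Modules 1
  have hΨ0 : ∀ F, Ψ F 0 = 0 := fun F => by
    have h := hnat _ _ (0 : F ⟶ F) (0 : F ⟶ M)
    rwa [zero_comp, Functor.map_zero, Functor.map_zero, zero_comp] at h
  -- the extension of the twisted sequence
  obtain ⟨_, _, _⟩ := FMTrans15.exact_tF' hLi
  let S' : ShortComplex X.Modules := S.map ((DCoh.tensorBi (X := X)).flip.obj L)
  let ν : S'.X₁ ≅ Coh.structureModule X :=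
    ((OX.tensorBraiding (X := X)).app L).app S.X₁ ≪≫ eLI
  have hS' : S'.ShortExact := OX.tensor_map_shortExact (flat_of_isFinLocFree (Euler.isFinLocFree_of_isInvertible hLi)) hS
  let μ : S'.X₃ ≅ P.obj N :=
    ((OX.tensorBraiding (X := X)).app L).app S.X₃ ≪≫
      (ChangeRings20.projIso i (Coh.structureModule I.subscheme)).app L ≪≫
      P.mapIso (((OX.tensorBraiding (X := I.subscheme)).app (Coh.structureModule I.subscheme)).app N ≪≫ OX.tensorUnitNatIso.app N)
  obtain ⟨v, hv⟩ := (hΨ N).2 (extHom S' hS' μ ν)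
  refine ⟨v, Preadditive.mono_of_cancel_zero _ fun {F} w hw => P.map_injective ?_⟩
  rw [P.map_zero]
  refine eq_zero_of_extHom S' hS' μ ν (P.map w) ?_ fun h => ?_
  · rw [← hv]
    exact (hnat F N w v).symm.trans ((congrArg (Ψ F) hw).trans (hΨ0 F))
  · exact hom_push_invertible_eq_zero hI (Ample.isInvertible_tensorMod Euler.isInvertible_structure hLi) F h

/-- **`R Hom(O_D, O_X)` is the restriction of the inverse of the ideal, in degree one.** -/
theorem RHomOPlus_effCartier (hI : _root_.BlowUp.IsEffCartierIdeal I)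
    (L : X.Modules) (hL : ClSub.IsInverseOf L (ClSub.idealMod I))
    (O : DerivedCategory.Plus X.Modules) (hO : Nonempty (O.obj ≅ DCoh.inD X (Coh.structureModule X))) :
    (∀ j : ℤ, j ≠ 1 → IsZero (DCoh.HD ((Dual3.RHomOPlus I.subschemeι).obj O).obj j)) ∧
      Nonempty (DCoh.HD ((Dual3.RHomOPlus I.subschemeι).obj O).obj 1 ≅
        (Scheme.Modules.pullback I.subschemeι).obj L) := by
  obtain ⟨hvan, π, hπ⟩ := vanish_and_quotient hI L hL O hO
  obtain ⟨Ψ, hΨ, hnat⟩ := exists_extEquiv (I := I) O hO hvan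
  obtain ⟨v, hv⟩ := exists_mono hI L hL _ Ψ hΨ hnat
  refine ⟨hvan, ?_⟩
  let i := I.subschemeι
  obtain ⟨_, hfaith⟩ := ClosedHom20.full_faithful_pushforward i
  haveI := hfaith
  let P := Scheme.Modules.pushforward i
  let a := Scheme.Modules.pullbackPushforwardAdjunction i
  let u := (a.homEquiv L _).symm π
  have hu : a.unit.app L ≫ P.map u = π := (a.homEquiv_unit L _ u).symm.trans (Equiv.apply_symm_apply _ _)
  haveI : Epi u := by
    haveI : Epi (a.unit.app L ≫ P.map u) := hu ▸ hπ
    haveI : Epi (P.map u) := epi_of_epi (a.unit.app L) _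
    exact P.epi_of_epi_map ‹_›
  have hN : PicF.IsInvertible ((Scheme.Modules.pullback i).obj L) :=
    ((Cube.hasCls_clsMod (isInvertible_inverse hI L hL)).pullback i).1
  haveI := hv
  haveI : IsIso u := isIso_of_epi_mono hN u v
  exact ⟨(asIso u).symm⟩

end GrothLib.CartierDual22
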